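import Groth.Agent.RuledSurfLib.Basic
import Groth.Agent.CohCmpLib.SemiCont
import Groth.Agent.CohCmpLib.FibreRows
import Groth.Agent.CohCmpLib.LineBundle
import Groth.Agent.AVIndexLib.LerayShift
import Groth.Agent.S2391
import Groth.Agent.S1026
import Groth.Agent.H0Lib.Main

/-!
# Ruled surfaces: direct images of line bundles
-/

set_option autoImplicit false
set_option linter.style.haveILetI false
set_option linter.unusedSectionVars false
universe u

open CategoryTheory CategoryTheory.Limits AlgebraicGeometry TopologicalSpace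
open KFlatLib (pb)

noncomputable section

namespace RuledSurfLib

section Leray
variable (k : Type u) [Field k] {X C : Scheme.{u}} [X.Over (Spec (CommRingCat.of k))]
  [C.Over (Spec (CommRingCat.of k))]

/-- Cohomology through a direct image without higher terms, linearly over the base. -/
theorem nonempty_HH_push (π : X ⟶ C) (hπ : π ≫ (C ↘ Spec (CommRingCat.of k)) = X ↘ Spec (CommRingCat.of k))
    [HasInjectiveResolutions X.Modules] (F : X.Modules) (hF : ∀ p, 0 < p → IsZero ((Coh.Rpush π p).obj F)) (i : ℕ) :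
    Nonempty (Coh.HH X F i ≃ₗ[k] Coh.HH C ((Coh.push π).obj F) i) := by
  obtain ⟨Δ, -⟩ := CohCmpLib.exists_sectCmp π
  obtain ⟨e, he⟩ := AVIndexLib.exists_leray_zero Δ i F hF
  haveI := CohCmpLib.preservesFiniteLimits_push (f := π)
  let φ : (Coh.Rpush π 0).obj F ≅ (Coh.push π).obj F :=
    (Scheme.Modules.pushforward π).rightDerivedZeroIsoSelf.app F
  let f : Coh.HH X F i ≃ₗ[k] Coh.HH C ((Coh.Rpush π 0).obj F) i :=
    { e with
      map_smul' := fun c x => by
        have h := he (Coh.toGlobal (C ↘ Spec (CommRingCat.of k)) c) x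
        refine Eq.trans ?_ h
        refine congrArg e (congrArg (fun r => CohCmpLib.hs r F i x) ?_)
        show (X ↘ Spec (CommRingCat.of k)).appTop _ = π.appTop ((C ↘ Spec (CommRingCat.of k)).appTop _)
        rw [← hπ]
        rfl }
  exact ⟨f.trans (CurvLib.hIso (k := k) φ i)⟩

end Leray

variable {k : Type u} [Field k] [IsAlgClosed k] {X C : Scheme.{u}} [X.Over (Spec (CommRingCat.of k))]
  [C.Over (Spec (CommRingCat.of k))] [IsIntegral C] [IsProper (C ↘ Spec (CommRingCat.of k))]
  [IsIntegral X] [IsProper (X ↘ Spec (CommRingCat.of k))] (π : X ⟶ C)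

/-- An open set containing every closed point is everything. -/
theorem eq_univ_of_closedPoints (k : Type u) [Field k] [C.Over (Spec (CommRingCat.of k))]
    [IsProper (C ↘ Spec (CommRingCat.of k))] {U : Set C} (hU : IsOpen U) (h : ∀ y : C, IsClosed ({y} : Set C) → y ∈ U) :
    U = Set.univ := by
  haveI : JacobsonSpace C := LocallyOfFiniteType.jacobsonSpace (C ↘ Spec (CommRingCat.of k))
  by_contra hne
  obtain ⟨z, hz, hzc⟩ := nonempty_inter_closedPoints (X := C) (Z := Uᶜ)
    (Set.nonempty_compl.2 hne) hU.isClosed_compl.isLocallyClosed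
  exact hz (h z hzc)

variable [Smooth (C ↘ Spec (CommRingCat.of k))] [GeometricallyConnected (C ↘ Spec (CommRingCat.of k))]

/-- A bundle of nonnegative degree on every fibre: the fibre dimensions. -/
theorem betti_closed (hf : ModFun.IsCurveOfGenus 0 π)
    (hπ : π ≫ (C ↘ Spec (CommRingCat.of k)) = X ↘ Spec (CommRingCat.of k)) (hd : topologicalKrullDim C = 1)
    {L : X.Modules} (hL : PicF.IsInvertible L) (y : C) (hy : IsClosed ({y} : Set C)) :
    ∃ d : ℤ, HodgeIdxLib.pr k L
        (ClSub.idealMod ((Scheme.IdealSheafData.vanishingIdeal ⟨{y}, hy⟩).comap π)) = -d ∧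
      (0 ≤ d → (∀ p, 0 < p → PerfAux.betti π L y p = 0) ∧ (PerfAux.betti π L y 0 : ℤ) = d + 1) := by
  haveI := hf.1
  haveI := hf.2.1
  haveI : LocallyOfFinitePresentation π := inferInstance
  obtain ⟨Z, _, i, v, hsq, hv, hI, hpr, -, -⟩ := exists_fibre π hf hπ hd y hy
  refine ⟨Curv2.deg k Z (pb i L) 1, ?_, fun hnn => ?_⟩
  · rw [HodgeIdxLib.pr_comm, hpr L hL]
  obtain ⟨hQ, hfp, hfl⟩ := CohCmpLib.rank_one_hyps π ((CohCmpLib.invertible_iff_rank_one L).1 hL)
  haveI := hQ
  obtain ⟨W, K, hW, hyW⟩ := CohCmpLib.exists_chart_at hfp hfl y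
  have hb : ∀ p, Module.finrank k (Coh.HH Z (pb i L) p) = PerfAux.betti π L y p := fun p => by
    rw [← hv (IsLocalRing.closedPoint k)]
    exact K.finrank_bc hW hsq (fun z => by rwa [hv z]) (IsLocalRing.closedPoint k) p
  obtain ⟨hp, h0⟩ := coh_fibre π hf hsq (AmpleDevLib.isInvertible_pb i hL) hnn
  refine ⟨fun p hp' => ?_, ?_⟩
  · haveI := hp p hp'
    rw [← hb, Module.finrank_zero_of_subsingleton]
  · rw [← hb, h0]

/-- No higher cohomology on any fibre. -/
theorem betti_pos (hf : ModFun.IsCurveOfGenus 0 π)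
    (hπ : π ≫ (C ↘ Spec (CommRingCat.of k)) = X ↘ Spec (CommRingCat.of k)) (hd : topologicalKrullDim C = 1)
    {L : X.Modules} (hL : PicF.IsInvertible L)
    (hdeg : ∀ (y : C) (hy : IsClosed ({y} : Set C)), HodgeIdxLib.pr k L
      (ClSub.idealMod ((Scheme.IdealSheafData.vanishingIdeal ⟨{y}, hy⟩).comap π)) ≤ 0)
    (p : ℕ) (hp : 0 < p) (s : C) : Subsingleton (CohIII.fiberH π L s p) := by
  haveI := hf.1
  haveI := hf.2.1
  obtain ⟨hQ, hfp, hfl⟩ := CohCmpLib.rank_one_hyps π ((CohCmpLib.invertible_iff_rank_one L).1 hL)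
  have hU : {s : C | PerfAux.betti π L s p < 1} = Set.univ :=
    eq_univ_of_closedPoints k (CohCmpLib.isOpen_betti_lt hfp hfl p 1) fun y hy => by
      obtain ⟨d, hd', h⟩ := betti_closed π hf hπ hd hL y hy
      have := hdeg y hy
      show PerfAux.betti π L y p < 1
      rw [(h (by omega)).1 p hp]
      exact one_pos
  have hs : PerfAux.betti π L s p < 1 := hU.symm.le (Set.mem_univ s)
  let κ : Type u := C.residueField s
  letI : (π.fiber s).Over (Spec (CommRingCat.of κ)) := ⟨π.fiberToSpecResidueField s⟩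
  haveI : IsProper ((π.fiber s) ↘ Spec (CommRingCat.of κ)) :=
    MorphismProperty.pullback_snd _ _ (inferInstanceAs (IsProper π))
  haveI : Module.Finite κ (Coh.HH (π.fiber s) (CohIII.fiberMod π L s) p) :=
    CurvLib.finite_HH (CurvLib.isCoh_of_isInvertible (AmpleDevLib.isInvertible_pb _ hL)) p
  exact (Module.finrank_zero_iff (R := κ) (M := Coh.HH (π.fiber s) (CohIII.fiberMod π L s) p)).1
    (by have : Module.finrank κ (Coh.HH (π.fiber s) (CohIII.fiberMod π L s) p) = PerfAux.betti π L s p := rfl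
        omega)

/-- The higher direct images vanish. -/
theorem isZero_rpush (hf : ModFun.IsCurveOfGenus 0 π)
    (hπ : π ≫ (C ↘ Spec (CommRingCat.of k)) = X ↘ Spec (CommRingCat.of k)) (hd : topologicalKrullDim C = 1)
    [HasInjectiveResolutions X.Modules] {L : X.Modules} (hL : PicF.IsInvertible L)
    (hdeg : ∀ (y : C) (hy : IsClosed ({y} : Set C)), HodgeIdxLib.pr k L
      (ClSub.idealMod ((Scheme.IdealSheafData.vanishingIdeal ⟨{y}, hy⟩).comap π)) ≤ 0)
    (p : ℕ) (hp : 0 < p) : IsZero ((Coh.Rpush π p).obj L) := by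
  haveI := hf.1
  haveI := hf.2.1
  obtain ⟨hQ, hfp, hfl⟩ := CohCmpLib.rank_one_hyps π ((CohCmpLib.invertible_iff_rank_one L).1 hL)
  haveI := hQ
  exact CohCmpLib.isZero_rpush_of_fibre hfp hfl p fun s => betti_pos π hf hπ hd hL hdeg p hp s

/-- Constant degree gives a locally free direct image of the expected rank. -/
theorem push_rank (hf : ModFun.IsCurveOfGenus 0 π)
    (hπ : π ≫ (C ↘ Spec (CommRingCat.of k)) = X ↘ Spec (CommRingCat.of k)) (hd : topologicalKrullDim C = 1)
    [HasInjectiveResolutions X.Modules] (n : ℕ) {L : X.Modules} (hL : PicF.IsInvertible L)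
    (hdeg : ∀ (y : C) (hy : IsClosed ({y} : Set C)), HodgeIdxLib.pr k L
      (ClSub.idealMod ((Scheme.IdealSheafData.vanishingIdeal ⟨{y}, hy⟩).comap π)) = -(n : ℤ)) :
    FlatMod.IsFinLocFreeOfRank (n + 1) ((Coh.push π).obj L) := by
  haveI := hf.1
  haveI := hf.2.1
  haveI : IsLocallyNoetherian C := LocallyOfFiniteType.isLocallyNoetherian (C ↘ Spec (CommRingCat.of k))
  obtain ⟨hQ, hfp, hfl⟩ := CohCmpLib.rank_one_hyps π ((CohCmpLib.invertible_iff_rank_one L).1 hL)
  haveI := hQ
  have hle : ∀ (y : C) (hy : IsClosed ({y} : Set C)), HodgeIdxLib.pr k L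
      (ClSub.idealMod ((Scheme.IdealSheafData.vanishingIdeal ⟨{y}, hy⟩).comap π)) ≤ 0 := fun y hy => by
    rw [hdeg y hy]; omega
  have hb : ∀ (p : ℕ) (s : C), 0 < p → PerfAux.betti π L s p = 0 := fun p s hp => by
    haveI := betti_pos π hf hπ hd hL hle p hp s
    haveI : Subsingleton (PerfAux.fiberH π L s p) := this
    exact Module.finrank_zero_of_subsingleton
  have hχ : ∀ s : C, PerfAux.eulerChar π L s = (PerfAux.betti π L s 0 : ℤ) := fun s => by
    unfold PerfAux.eulerChar
    rw [finsum_eq_single _ 0 fun i hi => ?_]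
    · rw [pow_zero, one_mul]
    · rw [hb i s (Nat.pos_of_ne_zero hi), Nat.cast_zero, mul_zero]
  have hlc := Groth.Agent.S1026.result π L hfp hfl
  have hrank : ∀ s : C, PerfAux.betti π L s 0 = n + 1 := fun s => by
    haveI : JacobsonSpace C := LocallyOfFiniteType.jacobsonSpace (C ↘ Spec (CommRingCat.of k))
    obtain ⟨y, -, hy⟩ := nonempty_inter_closedPoints (X := C) (Z := Set.univ) Set.univ_nonempty
      isClosed_univ.isLocallyClosed
    obtain ⟨d, hd', h⟩ := betti_closed π hf hπ hd hL y hy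
    have e : d = n := by linarith [hdeg y hy]
    have h' := hlc.apply_eq_of_preconnectedSpace s y
    rw [hχ, hχ, (h (by omega)).2, e] at h'
    exact_mod_cast h'
  haveI : Coh.IsQCoh L := hQ
  have hconst : IsLocallyConstant (CohIII.fiberRank π L 0) :=
    IsLocallyConstant.of_constant _ fun a b => (hrank a).trans (hrank b).symm
  obtain ⟨-, h⟩ := Groth.Agent.S2391.result π L (CurvLib.isCoh_of_isInvertible hL) hfl 0 hconst
  intro s
  obtain ⟨U, hs, ⟨e⟩⟩ := h s
  haveI := CohCmpLib.preservesFiniteLimits_push (f := π)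
  refine ⟨U, hs, ⟨(Scheme.Modules.restrictFunctor U.ι).mapIso
    ((Scheme.Modules.pushforward π).rightDerivedZeroIsoSelf.app L).symm ≪≫ e ≪≫
    eqToIso (congrArg (FlatMod.freeMod (↑U)) (hrank s))⟩⟩

end RuledSurfLib
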