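import Groth.Agent.ConicCurveLib.Ruled
import Groth.Agent.SurfNumLib.CastSev
import Groth.Agent.CohCmpLib.EulerFibre
import Groth.Agent.CurveH0Lib.Smooth
import Groth.Agent.RRVanLib.Main
import Groth.Agent.RelDualLib.Bundle

/-!
# Ruled surfaces: fibres and intersection numbers with fibres
-/

set_option autoImplicit false
set_option linter.style.haveILetI false
set_option linter.unusedSectionVars false
universe u

open CategoryTheory CategoryTheory.Limits AlgebraicGeometry TopologicalSpace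
open HilbPolyLib DevissLib IntMultLib IntFunLib HodgeIdxLib PicH1Lib SurfNumLib
open KFlatLib (pb puSec)

noncomputable section

namespace RuledSurfLib

variable {k : Type u} [Field k] [IsAlgClosed k] {X C : Scheme.{u}} [X.Over (Spec (CommRingCat.of k))]
  [C.Over (Spec (CommRingCat.of k))] [IsIntegral C] [IsProper (C ↘ Spec (CommRingCat.of k))]

/-- A regular curve over an algebraically closed field. -/
theorem curve_facts (hregC : ∀ x : C, IsRegularLocalRing (C.presheaf.stalk x)) :
    Smooth (C ↘ Spec (CommRingCat.of k)) ∧ GeometricallyConnected (C ↘ Spec (CommRingCat.of k)) := by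
  haveI : Smooth (C ↘ Spec (CommRingCat.of k)) := CurveH0Lib.smooth_of_regular k _ hregC
  haveI := CurveBCLib.geometricallyIntegral_of_sepClosed (k := k) (X := C)
  exact ⟨inferInstance, Groth.Agent.WeilRes.geometricallyConnected_of_geometricallyIrreducible _⟩

variable (π : X ⟶ C)

/-- A fibre over a point with values in an algebraically closed field is a line. -/
theorem fibre_facts (hf : ModFun.IsCurveOfGenus 0 π) {K : Type u} [Field K] [IsAlgClosed K] {Z : Scheme.{u}}
    [Z.Over (Spec (CommRingCat.of K))] {i : Z ⟶ X} {v : Spec (CommRingCat.of K) ⟶ C}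
    (H : IsPullback i (Z ↘ Spec (CommRingCat.of K)) π v) :
    ∃ (_ : IsProper (Z ↘ Spec (CommRingCat.of K))) (_ : Smooth (Z ↘ Spec (CommRingCat.of K)))
      (_ : GeometricallyConnected (Z ↘ Spec (CommRingCat.of K))) (_ : IsIntegral Z),
      topologicalKrullDim Z = 1 ∧ Curv2.genus K Z = 0 ∧
        Module.finrank K (Coh.HH Z (Coh.structureModule Z) 0) = 1 := by
  obtain ⟨hsm, hpr, hgi, hfib⟩ := IsotrivLib.isCurveOfGenus_of_isPullback hf H
  haveI : IsProper (Z ↘ Spec (CommRingCat.of K)) := hpr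
  haveI : Smooth (Z ↘ Spec (CommRingCat.of K)) := hsm
  haveI : GeometricallyIrreducible (Z ↘ Spec (CommRingCat.of K)) := hgi
  haveI hc := Groth.Agent.WeilRes.geometricallyConnected_of_geometricallyIrreducible (Z ↘ Spec (CommRingCat.of K))
  haveI := FibVALib.geometricallyIntegral_of_geometricallyConnected (Z ↘ Spec (CommRingCat.of K))
  haveI hint : IsIntegral Z := GeometricallyIntegral.isIntegral_of_subsingleton (Z ↘ Spec (CommRingCat.of K))
  obtain ⟨hd, hg⟩ := hfib K (𝟙 _) Z (𝟙 Z) (Z ↘ Spec (CommRingCat.of K)) (IsPullback.of_horiz_isIso ⟨by simp⟩)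
  exact ⟨hpr, hsm, hc, hint, hd, hg, RRVanLib.finrank_h0_structure⟩

/-- On a fibre, a nonnegative degree kills `H¹` and determines the sections. -/
theorem coh_fibre (hf : ModFun.IsCurveOfGenus 0 π) {K : Type u} [Field K] [IsAlgClosed K] {Z : Scheme.{u}}
    [Z.Over (Spec (CommRingCat.of K))] {i : Z ⟶ X} {v : Spec (CommRingCat.of K) ⟶ C}
    (H : IsPullback i (Z ↘ Spec (CommRingCat.of K)) π v) {M : Z.Modules} (hM : PicF.IsInvertible M)
    (hdeg : 0 ≤ Curv2.deg K Z M 1) :
    (∀ p : ℕ, 0 < p → Subsingleton (Coh.HH Z M p)) ∧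
      (Module.finrank K (Coh.HH Z M 0) : ℤ) = Curv2.deg K Z M 1 + 1 := by
  obtain ⟨_, _, _, _, hd, hg, h0⟩ := fibre_facts π hf H
  have h1 : Subsingleton (Coh.HH Z M 1) :=
    RRVanLib.subsingleton_h1 hd h0 hM (by rw [hg]; omega)
  haveI := CurvLib.isNoetherian K (X := Z)
  have hp : ∀ p : ℕ, 0 < p → Subsingleton (Coh.HH Z M p) := fun p hp => by
    rcases eq_or_lt_of_le (Nat.one_le_iff_ne_zero.mpr hp.ne') with h | h
    · exact h ▸ h1
    · haveI : Coh.IsQCoh M := (CurvLib.isCoh_of_isInvertible hM).1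
      exact CurvLib.subsingleton_HH_of_dim_le _ (d := 1) hd.le p h
  refine ⟨hp, ?_⟩
  have he := RRVanLib.euler_eq_deg (k := K) hd h0 M
  rw [hg, Nat.cast_zero, sub_zero, Curv2.euler] at he
  rw [← he, finsum_eq_single _ 0 fun n hn => ?_]
  · simp
  · haveI := hp n (Nat.pos_of_ne_zero hn)
    rw [Module.finrank_zero_of_subsingleton, Nat.cast_zero, mul_zero]

variable [IsIntegral X] [IsProper (X ↘ Spec (CommRingCat.of k))]
  [Smooth (C ↘ Spec (CommRingCat.of k))] [GeometricallyConnected (C ↘ Spec (CommRingCat.of k))]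

/-- The ideal of the fibre over a closed point and its intersection numbers. -/
theorem exists_fibre (hf : ModFun.IsCurveOfGenus 0 π)
    (hπ : π ≫ (C ↘ Spec (CommRingCat.of k)) = X ↘ Spec (CommRingCat.of k)) (hd : topologicalKrullDim C = 1)
    (y : C) (hy : IsClosed ({y} : Set C)) :
    ∃ (Z : Scheme.{u}) (_ : Z.Over (Spec (CommRingCat.of k))) (i : Z ⟶ X) (v : Spec (CommRingCat.of k) ⟶ C),
      IsPullback i (Z ↘ Spec (CommRingCat.of k)) π v ∧ (∀ z, v z = y) ∧
      PicF.IsInvertible (ClSub.idealMod ((Scheme.IdealSheafData.vanishingIdeal ⟨{y}, hy⟩).comap π)) ∧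
      (∀ T : X.Modules, PicF.IsInvertible T →
        pr k (ClSub.idealMod ((Scheme.IdealSheafData.vanishingIdeal ⟨{y}, hy⟩).comap π)) T =
          -Curv2.deg k Z (pb i T) 1) ∧
      Curv2.deg k Z (pb i (ClSub.idealMod ((Scheme.IdealSheafData.vanishingIdeal ⟨{y}, hy⟩).comap π))) 1 = 0 ∧
      ∀ j : C ⟶ X, j ≫ π = 𝟙 C →
        Curv2.deg k C (pb j (ClSub.idealMod ((Scheme.IdealSheafData.vanishingIdeal ⟨{y}, hy⟩).comap π))) 1 = -1 := by
  haveI := hf.1
  haveI := hf.2.1
  haveI := CurvLib.isNoetherian k (X := X)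
  let v := pointOfClosedPoint (C ↘ Spec (CommRingCat.of k)) y hy
  have hv : v ≫ (C ↘ Spec (CommRingCat.of k)) = 𝟙 _ := pointOfClosedPoint_comp _ _ _
  have hva : ∀ z, v z = y := fun z => pointOfClosedPoint_apply _ y hy z
  have hkv : v.ker = Scheme.IdealSheafData.vanishingIdeal ⟨{y}, hy⟩ := by
    rw [SecDivLib.ker_rational v hv]
    congr 1
    exact TopologicalSpace.Closeds.ext (congrArg (fun p : C => ({p} : Set C)) (hva _))
  haveI : IsClosedImmersion v := by
    haveI : IsClosedImmersion (v ≫ (C ↘ Spec (CommRingCat.of k))) := by rw [hv]; infer_instance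
    exact IsClosedImmersion.of_comp v (C ↘ Spec (CommRingCat.of k))
  let Z := pullback π v
  letI : Z.Over (Spec (CommRingCat.of k)) := ⟨pullback.snd π v⟩
  let i : Z ⟶ X := pullback.fst π v
  have hsq : IsPullback i (Z ↘ Spec (CommRingCat.of k)) π v := IsPullback.of_hasPullback π v
  obtain ⟨_, _, _, _, hdZ, -, -⟩ := fibre_facts π hf hsq
  haveI := CurvLib.isNoetherian k (X := Z)
  haveI := CurvLib.isNoetherian k (X := C)
  haveI : IsClosedImmersion i := MorphismProperty.of_isPullback (P := @IsClosedImmersion) hsq.flip inferInstance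
  have hker : v.ker.comap π = i.ker := by
    rw [← Scheme.IdealSheafData.ker_fst_of_isClosedImmersion v π]
  rw [← hkv]
  have hN := AlgEquivCurveLib.isEffCartier_pt (k := k) hd v hv
  have hNi := IntMultLib.isInvertible_idealMod _ hN
  have hJ : BlowUp.IsEffCartierIdeal i.ker := hker ▸ BlowUpLib.isEffCartier_comap_of_flat π hN
  have hI : PicF.IsInvertible (ClSub.idealMod (v.ker.comap π)) := IntMultLib.isInvertible_idealMod _ (hker ▸ hJ)
  haveI := isIso_toComap_flat π v.ker
  let eF : ClSub.idealMod (v.ker.comap π) ≅ pb π (ClSub.idealMod v.ker) := (asIso (toComap π v.ker)).symm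
  have hig : i ≫ (X ↘ Spec (CommRingCat.of k)) = Z ↘ Spec (CommRingCat.of k) := by
    rw [← hπ, reassoc_of% hsq.w, hv, Category.comp_id]
  refine ⟨Z, inferInstance, i, v, hsq, hva, hI, fun T hT => ?_, ?_, fun j hj => ?_⟩
  · rw [hker]
    rw [pr_ideal _ (CurvLib.isCoh_of_isInvertible (hker ▸ hI)) hT, N_congr [T] (quotMod_ker_iso i).some,
      ← N_push (k := k) (g := i) hig (l := [T]) (by simpa using hT) (DevissLib.isCoh_structureModule Z)
        ((topologicalKrullDim_subspace_le _ _).trans (by rw [hdZ]; simp))]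
    change -N k [pb i T] (Coh.structureModule Z) = _
    rw [← euler_sub_eq_N, Curv2.deg]
    simp
  · obtain ⟨e⟩ := trivial_spec_field (AmpleDevLib.isInvertible_pb v hNi)
    let e' : pb i (ClSub.idealMod (v.ker.comap π)) ≅ Coh.structureModule Z :=
      (Scheme.Modules.pullback i).mapIso eF ≪≫ (Scheme.Modules.pullbackComp i π).app _ ≪≫
        (Scheme.Modules.pullbackCongr hsq.w).app _ ≪≫
        ((Scheme.Modules.pullbackComp (Z ↘ Spec (CommRingCat.of k)) v).app _).symm ≪≫
        (Scheme.Modules.pullback (Z ↘ Spec (CommRingCat.of k))).mapIso e ≪≫ KFlatLib.pullUnitIso _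
    rw [CurvLib.deg_congr (k := k) e' 1]
    simp [Curv2.deg]
  · let e' : pb j (ClSub.idealMod (v.ker.comap π)) ≅ ClSub.idealMod v.ker :=
      (Scheme.Modules.pullback j).mapIso eF ≪≫ (Scheme.Modules.pullbackComp j π).app _ ≪≫
        (Scheme.Modules.pullbackCongr hj).app _ ≪≫ (Scheme.Modules.pullbackId C).app _
    rw [CurvLib.deg_congr (k := k) e' 1]
    haveI : IsDiscreteValuationRing (C.presheaf.stalk y) := HurwitzLib.dvr_stalk_closed (k := k) hd hy
    obtain ⟨I, ⟨eI⟩, hI', hdI⟩ := GenusZeroLib.exists_idealMod_iso (k := k) hy hd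
    rw [show v.ker = GenusZeroLib.ptIdeal hy from hkv, ← CurvLib.deg_congr (k := k) eI 1, hdI]
    rw [← hva (IsLocalRing.closedPoint k), GenusZeroLib.finrank_residueField_rational v hv]
    rfl

end RuledSurfLib
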